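import Cfsg.Agent.H500.TwF4.Abs
import Cfsg.Agent.H71.FldAut
import Cfsg.Agent.H366.X.Base
import Cfsg.Agent.S1072

/-!
# Automorphisms of `²F₄(q)` and element orders (helper500, S3483 for helper366)

* `twF4_autOk` : `AutOk (twistedF4 K (2 ^ m))`.
-/

set_option autoImplicit false

namespace Cfsg.Agent.H500.TwF4

open Cfsg.Lie Cfsg.Agent.H373.Recog Cfsg.Agent.H366.X
open Cfsg.Agent.KFacts.TwF4

universe u

/-- **the large Ree groups**: no group between `Inn` and `Aut` has the same element orders. -/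
theorem twF4_autOk {K : Type u} [Field K] [Fintype K] {m : ℕ} (hm : 1 ≤ m) (hK : Fintype.card K = 2 ^ (2 * m + 1)) :
    AutOk ↥(twistedF4 K (2 ^ m)) := by
  have hch : CharP K 2 := Cfsg.Agent.ChevalleyStructure.TwF4.Twisted.charP_two hK
  have hfin : Finite ↥(twistedF4 K (2 ^ m)) := inferInstance
  have hFin : Finite K := inferInstance
  obtain ⟨φ, hφ⟩ := Cfsg.Agent.ChevalleyStructure.TwF4.TwistedFix.exists_rln hK
  have hsimp := Cfsg.Agent.S1072.result hm hK
  have hs := hsimp.1
  have hz : Subgroup.center ↥(twistedF4 K (2 ^ m)) = ⊥ := by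
    rcases hs.eq_bot_or_eq_top_of_normal (Subgroup.center ↥(twistedF4 K (2 ^ m))) inferInstance with h | h
    · exact h
    · exact absurd ⟨⟨fun a b => ((Subgroup.mem_center_iff.1 (h ▸ Subgroup.mem_top a : a ∈ Subgroup.center _)) b).symm⟩⟩
        hsimp.2
  have hq : Nat.card K = 2 ^ (2 * m + 1) := by rw [Nat.card_eq_fintype_card, hK]
  have hF : ∃ c : Kˣ, c ≠ 1 := by
    have h1 : 1 < Nat.card Kˣ := by
      rw [Nat.card_units, Nat.card_eq_fintype_card, hK]
      have : 2 ^ 3 ≤ 2 ^ (2 * m + 1) := Nat.pow_le_pow_right (by norm_num) (by omega)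
      omega
    have : Nontrivial Kˣ := Finite.one_lt_card_iff_nontrivial.1 h1
    exact exists_ne 1
  let S : Full φ ↥(twistedF4 K (2 ^ m)) := Cfsg.Agent.KFacts.TwF4.Inst.full hK hφ
  have hR : S.R.p = 2 := rfl
  let Φ : (K ≃+* K) →* MulAut ↥(twistedF4 K (2 ^ m)) :=
    MonoidHom.mk' (fun τ => Cfsg.Agent.S2128.fld τ (2 ^ m)) (fun σ τ => Cfsg.Agent.H71.FldAut.fldF_mul σ τ _)
  have hΦo : ∀ (τ : K ≃+* K) (a : ZMod 8) (t : K), Φ τ (S.o a t) = S.o a (τ t) := fun τ a t =>
    Cfsg.Agent.S2128.fld_ro τ hφ a t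
  have hΦe : ∀ (τ : K ≃+* K) (a : ZMod 8) (p u : K), Φ τ (S.e a p u) = S.e a (τ p) (τ u) := fun τ a p u =>
    Cfsg.Agent.S2128.fld_re τ hφ a p u
  have h6 : ∀ τ, Φ τ (x6 S) = x6 S := by
    intro τ
    unfold x6
    rw [map_mul, map_mul, hΦo, hΦo, hΦo, map_one]
  have hn2 : ∀ τ, Φ τ S.n2 = S.n2 := by
    intro τ
    rw [S.n2_word, map_mul, map_mul, hΦe, hΦe, hΦe, map_one, map_zero]
  have h10 : ∀ τ, Φ τ (x10 S) = x10 S := by
    intro τ
    unfold x10 a5
    rw [map_mul, map_mul, hΦe, hΦe, hn2, map_one, map_zero]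
  refine autOk_of_field Φ (fun α => Cfsg.Agent.H71.FldAut.twF4_aut hm hK α) ?_ hz ?_
  · intro τ hτ
    ext t
    have h1 := hΦo τ 0 t
    rw [hτ, MulAut.one_apply] at h1
    exact (S.injO 0 h1).symm
  · intro τ hτ
    have ho : orderOf τ ∣ 2 * m + 1 := by
      have : Fact (Nat.Prime 2) := ⟨Nat.prime_two⟩
      rw [← Cfsg.Agent.Lib.FieldAutCard.card_ringAut (by omega) hK]
      exact orderOf_dvd_natCard τ
    have hodd : Odd (orderOf τ) := Odd.of_dvd_nat ⟨m, rfl⟩ ho
    have h2 : orderOf τ ≠ 2 := by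
      intro h
      rw [h] at hodd
      exact absurd hodd (by decide)
    have hqm := mod3 m
    have hqq : (Nat.card K * Nat.card K + 1) % 3 = 2 := by
      rw [hq, Nat.add_mod, Nat.mul_mod, hqm]
    by_cases h5 : orderOf τ = 5
    · refine ⟨x6 S, h6 τ, by rw [h5, x6_ord]; norm_num, ?_⟩
      rw [h5, x6_ord]
      rintro ⟨y, hy⟩
      have h1 := ten S hF hR hq Nat.prime_three (by norm_num) (y := y) (by rw [hy])
      omega
    · by_cases hy : ∃ y : ↥(twistedF4 K (2 ^ m)), orderOf y = orderOf τ * 10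
      · obtain ⟨y, hy⟩ := hy
        have h1 := ten S hF hR hq hτ h2 (hy.trans (by ring))
        have h3 : orderOf τ ≠ 3 := by
          intro h
          rw [h] at h1
          omega
        refine ⟨x6 S, h6 τ, ?_, ?_⟩
        · rw [x6_ord, show 6 = 2 * 3 by norm_num]
          exact Nat.Coprime.mul_right ((Nat.coprime_primes hτ Nat.prime_two).2 h2)
            ((Nat.coprime_primes hτ Nat.prime_three).2 h3)
        · rw [x6_ord]
          rintro ⟨y', hy'⟩
          have h4 := six S hF hR hq hτ h2 (hy'.trans (by ring))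
          have hq1 : 1 ≤ Nat.card K := Nat.card_pos
          obtain ⟨k, hk⟩ := Nat.exists_eq_add_of_le hq1
          rw [hk] at h1 h4
          have h7 : orderOf τ ∣ 2 := by
            rcases h4 with h4 | h4
            · rw [Nat.add_sub_cancel_left] at h4
              have h8 : (1 + k) * (1 + k) + 1 = k * (k + 2) + 2 := by ring
              rw [h8] at h1
              exact (Nat.dvd_add_right (h4.mul_right _)).1 h1
            · have h8 : (1 + k) * (1 + k) + 1 = (1 + k + 1) * k + 2 := by ring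
              rw [h8] at h1
              exact (Nat.dvd_add_right (h4.mul_right _)).1 h1
          exact h2 ((Nat.prime_dvd_prime_iff_eq hτ Nat.prime_two).1 h7)
      · refine ⟨x10 S, h10 τ, ?_, ?_⟩
        · rw [x10_ord, show 10 = 2 * 5 by norm_num]
          exact Nat.Coprime.mul_right ((Nat.coprime_primes hτ Nat.prime_two).2 h2)
            ((Nat.coprime_primes hτ (by norm_num)).2 h5)
        · rw [x10_ord]
          exact hy

end Cfsg.Agent.H500.TwF4
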